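import Mathlib.Data.Nat.Bitwise
import Mathlib.Data.ZMod.Basic
import Mathlib.Tactic.NormNum
import Mathlib.Tactic.Ring
import Mathlib.Algebra.BigOperators.Pi
import Mathlib.Algebra.BigOperators.Fin
import Cfsg.Agent.Lib.PcMult.Collect

/-!
Matrices of size 24 modulo three packed into one number, one byte for each entry, with a product that uses
few operations on large numbers.
-/

set_option autoImplicit false

namespace Cfsg.Agent.Lib.PcMult.Leech

open Cfsg.Agent.Lib.PcMult Finset

/-- Bytes. -/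
def encL : List ℕ → ℕ
  | [] => 0
  | a :: as => a + 2 ^ 8 * encL as

/-- The same byte in `n` positions. -/
def rep : ℕ → ℕ → ℕ
  | 0, _ => 0
  | n + 1, c => c + 2 ^ 8 * rep n c

/-- A repeated byte at the start of `n` rows. -/
def sel : ℕ → ℕ
  | 0 => 0
  | n + 1 => 255 + 2 ^ 192 * sel n

theorem split_and {w : ℕ} (A a k C c : ℕ) (ha : a < 2 ^ w) (hk : k ≤ w) (hc : c < 2 ^ (w - k)) :
    ((a + 2 ^ w * A) >>> k) &&& (c + 2 ^ w * C) = ((a >>> k) &&& c) + 2 ^ w * ((A >>> k) &&& C) := by
  have hw : c < 2 ^ w := lt_of_lt_of_le hc (Nat.pow_le_pow_right two_pos (Nat.sub_le _ _))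
  have h1 : (a >>> k) &&& c < 2 ^ w := lt_of_le_of_lt Nat.and_le_right hw
  refine Nat.eq_of_testBit_eq fun j => ?_
  rw [Nat.testBit_and, Nat.testBit_shiftRight, Nat.add_comm a, Nat.add_comm c, Nat.add_comm (_ &&& c),
    Nat.testBit_two_pow_mul_add _ ha, Nat.testBit_two_pow_mul_add _ hw, Nat.testBit_two_pow_mul_add _ h1]
  by_cases hj : j < w
  · rw [if_pos hj, if_pos hj, Nat.testBit_and, Nat.testBit_shiftRight]
    by_cases hjk : k + j < w
    · rw [if_pos hjk]
    · rw [if_neg hjk, Nat.testBit_lt_two_pow (x := c) (lt_of_lt_of_le hc (Nat.pow_le_pow_right two_pos (by omega))),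
        Bool.and_false, Bool.and_false]
  · rw [if_neg hj, if_neg hj, if_neg (by omega), Nat.testBit_and, Nat.testBit_shiftRight,
      show k + j - w = k + (j - w) by omega]

theorem encL_lt : ∀ (l : List ℕ), (∀ a ∈ l, a < 256) → encL l < 2 ^ (8 * l.length)
  | [], _ => by simp [encL]
  | a :: as, h => by
    have := encL_lt as fun x hx => h x (List.mem_cons_of_mem _ hx)
    have ha := h a List.mem_cons_self
    rw [encL, List.length_cons, show 8 * (as.length + 1) = 8 + 8 * as.length by omega, Nat.pow_add]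
    omega

theorem encL_append : ∀ (a b : List ℕ), encL (a ++ b) = encL a + 2 ^ (8 * a.length) * encL b
  | [], b => by simp [encL]
  | x :: a, b => by
    rw [List.cons_append, encL, encL, encL_append a b, List.length_cons,
      show 8 * (a.length + 1) = 8 + 8 * a.length by omega, pow_add]
    ring

theorem encL_injective : ∀ (a b : List ℕ), (∀ x ∈ a, x < 256) → (∀ x ∈ b, x < 256) → a.length = b.length →
    encL a = encL b → a = b
  | [], [], _, _, _, _ => rfl
  | x :: a, y :: b, ha, hb, hl, e => by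
    have hx := ha x List.mem_cons_self
    have hy := hb y List.mem_cons_self
    simp only [encL] at e
    obtain rfl : x = y := by omega
    rw [encL_injective a b (fun z hz => ha z (List.mem_cons_of_mem _ hz))
      (fun z hz => hb z (List.mem_cons_of_mem _ hz)) (by simpa using hl) (by omega)]
  | [], _ :: _, _, _, hl, _ => by simp at hl
  | _ :: _, [], _, _, hl, _ => by simp at hl

theorem shift_and_encL : ∀ (l : List ℕ) (n k c : ℕ), (∀ a ∈ l, a < 256) → l.length ≤ n → k ≤ 8 →
    c < 2 ^ (8 - k) → (encL l >>> k) &&& rep n c = encL (l.map fun a => (a >>> k) &&& c)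
  | [], n, k, c, _, _, _, _ => by simp [encL]
  | a :: as, n + 1, k, c, h, hn, hk, hc => by
    rw [encL, rep, split_and _ _ _ _ _ (h a List.mem_cons_self) hk hc, List.map_cons, encL,
      shift_and_encL as n k c (fun x hx => h x (List.mem_cons_of_mem _ hx)) (by simpa using hn) hk hc]
  | _ :: _, 0, _, _, _, hn, _, _ => by simp at hn

/-! ### Reduction modulo three -/

/-- The byte 1 in 576 positions. -/
def m1 : ℕ := 0x1010101010101010101010101010101010101010101010101010101010101010101010101010101010101010101010101010101010101010101010101010101010101010101010101010101010101010101010101010101010101010101010101010101010101010101010101010101010101010101010101010101010101010101010101010101010101010101010101010101010101010101010101010101010101010101010101010101010101010101010101010101010101010101010101010101010101010101010101010101010101010101010101010101010101010101010101010101010101010101010101010101010101010101010101010101010101010101010101010101010101010101010101010101010101010101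0101010101010101010101010101010101010101010101010101010101010101010101010101010101010101010101010101010101010101010101010101010101010101010101010101010101010101010101010101010101010101010101010101010101010101010101010101010101010101010101010101010101010101010101010101010101010101010101010101010101010101010101010101010101010101010101010101010101010101010101010101010101010101010101010101010101010101010101010101010101010101010101010101010101010101010101010101010101010101010101010101010101010101010101010101010101010101010101010101010101010101010101010101010101010101010101010101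

theorem m1_eq : m1 = rep 576 1 := by decide +kernel

/-- The byte 3 in 576 positions. -/
def m3 : ℕ := 0x30303030303030303030303030303030303030303030303030303030303030303030303030303030303030303030303030303030303030303030303030303030303030303030303030303030303030303030303030303030303030303030303030303030303030303030303030303030303030303030303030303030303030303030303030303030303030303030303030303030303030303030303030303030303030303030303030303030303030303030303030303030303030303030303030303030303030303030303030303030303030303030303030303030303030303030303030303030303030303030303030303030303030303030303030303030303030303030303030303030303030303030303030303030303030303030303030303030303030303030303030303030303030303030303030303030303030303030303030303030303030303030303030303030303030303030303030303030303030303030303030303030303030303030303030303030303030303030303030303030303030303030303030303030303030303030303030303030303030303030303030303030303030303030303030303030303030303030303030303030303030303030303030303030303030303030303030303030303030303030303030303030303030303030303030303030303030303030303030303030303030303030303030303030303030303030303030303030303030303030303030303030303030303030303030303030303030303030303030303030303030303030303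

theorem m3_eq : m3 = rep 576 3 := by decide +kernel

/-- The byte 15 in 576 positions. -/
def m15 : ℕ := 0xf0f0f0f0f0f0f0f0f0f0f0f0f0f0f0f0f0f0f0f0f0f0f0f0f0f0f0f0f0f0f0f0f0f0f0f0f0f0f0f0f0f0f0f0f0f0f0f0f0f0f0f0f0f0f0f0f0f0f0f0f0f0f0f0f0f0f0f0f0f0f0f0f0f0f0f0f0f0f0f0f0f0f0f0f0f0f0f0f0f0f0f0f0f0f0f0f0f0f0f0f0f0f0f0f0f0f0f0f0f0f0f0f0f0f0f0f0f0f0f0f0f0f0f0f0f0f0f0f0f0f0f0f0f0f0f0f0f0f0f0f0f0f0f0f0f0f0f0f0f0f0f0f0f0f0f0f0f0f0f0f0f0f0f0f0f0f0f0f0f0f0f0f0f0f0f0f0f0f0f0f0f0f0f0f0f0f0f0f0f0f0f0f0f0f0f0f0f0f0f0f0f0f0f0f0f0f0f0f0f0f0f0f0f0f0f0f0f0f0f0f0f0f0f0f0f0f0f0f0f0f0f0f0f0f0f0f0f0f0f0f0f0f0f0f0f0f0f0f0f0f0f0f0f0f0f0f0f0f0f0f0f0f0f0f0f0f0f0f0f0f0f0f0f0f0f0f0f0f0f0f0f0f0f0f0f0f0f0f0f0f0f0f0f0f0f0f0f0f0f0f0f0f0f0f0f0f0f0f0f0f0f0f0f0f0f0f0f0f0f0f0f0f0f0f0f0f0f0f0f0f0f0f0f0f0f0f0f0f0f0f0f0f0f0f0f0f0f0f0f0f0f0f0f0f0f0f0f0f0f0f0f0f0f0f0f0f0f0f0f0f0f0f0f0f0f0f0f0f0f0f0f0f0f0f0f0f0f0f0f0f0f0f0f0f0f0f0f0f0f0f0f0f0f0f0f0f0f0f0f0f0f0f0f0f0f0f0f0f0f0f0f0f0f0f0f0f0f0f0f0f0f0f0f0f0f0f0f0f0f0f0f0f0f0f0f0f0f0f0f0f0f0f0f0f0f0f0f0f0f0f0f0f0f0f0f0f0f0f0f0f0f0f0f0f0f0f0f0f0f0f0f0f0f0f0f0f0f0f0f0f0f0f0f0f0f0f0f0f0f0f0f0f0f0f0f0f0f0f0f0f0f0f0f0f0f0f0f0f0f0f0f0f0f0f0f0f0f0f0f0f0f0f0f0f0f0f0f0f0f0f0f0f0f0f0f0f0f0f0f0f0f0f0f0f0f0f0f0f0f0f0f0f0f0f0f0f0f0f0f0f0f0f0f0f0f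

theorem m15_eq : m15 = rep 576 15 := by decide +kernel

/-- The byte 63 in 576 positions. -/
def m63 : ℕ := 0x3f3f3f3f3f3f3f3f3f3f3f3f3f3f3f3f3f3f3f3f3f3f3f3f3f3f3f3f3f3f3f3f3f3f3f3f3f3f3f3f3f3f3f3f3f3f3f3f3f3f3f3f3f3f3f3f3f3f3f3f3f3f3f3f3f3f3f3f3f3f3f3f3f3f3f3f3f3f3f3f3f3f3f3f3f3f3f3f3f3f3f3f3f3f3f3f3f3f3f3f3f3f3f3f3f3f3f3f3f3f3f3f3f3f3f3f3f3f3f3f3f3f3f3f3f3f3f3f3f3f3f3f3f3f3f3f3f3f3f3f3f3f3f3f3f3f3f3f3f3f3f3f3f3f3f3f3f3f3f3f3f3f3f3f3f3f3f3f3f3f3f3f3f3f3f3f3f3f3f3f3f3f3f3f3f3f3f3f3f3f3f3f3f3f3f3f3f3f3f3f3f3f3f3f3f3f3f3f3f3f3f3f3f3f3f3f3f3f3f3f3f3f3f3f3f3f3f3f3f3f3f3f3f3f3f3f3f3f3f3f3f3f3f3f3f3f3f3f3f3f3f3f3f3f3f3f3f3f3f3f3f3f3f3f3f3f3f3f3f3f3f3f3f3f3f3f3f3f3f3f3f3f3f3f3f3f3f3f3f3f3f3f3f3f3f3f3f3f3f3f3f3f3f3f3f3f3f3f3f3f3f3f3f3f3f3f3f3f3f3f3f3f3f3f3f3f3f3f3f3f3f3f3f3f3f3f3f3f3f3f3f3f3f3f3f3f3f3f3f3f3f3f3f3f3f3f3f3f3f3f3f3f3f3f3f3f3f3f3f3f3f3f3f3f3f3f3f3f3f3f3f3f3f3f3f3f3f3f3f3f3f3f3f3f3f3f3f3f3f3f3f3f3f3f3f3f3f3f3f3f3f3f3f3f3f3f3f3f3f3f3f3f3f3f3f3f3f3f3f3f3f3f3f3f3f3f3f3f3f3f3f3f3f3f3f3f3f3f3f3f3f3f3f3f3f3f3f3f3f3f3f3f3f3f3f3f3f3f3f3f3f3f3f3f3f3f3f3f3f3f3f3f3f3f3f3f3f3f3f3f3f3f3f3f3f3f3f3f3f3f3f3f3f3f3f3f3f3f3f3f3f3f3f3f3f3f3f3f3f3f3f3f3f3f3f3f3f3f3f3f3f3f3f3f3f3f3f3f3f3f3f3f3f3f3f3f3f3f3f3f3f3f3f3f3f3f3f3f3f3f3f3f3f3f3f3f3f3f3f3f3f3f3f3f3f3f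

theorem m63_eq : m63 = rep 576 63 := by decide +kernel

/-- The selector of 24 rows. -/
def sel24 : ℕ := 0xff0000000000000000000000000000000000000000000000ff0000000000000000000000000000000000000000000000ff0000000000000000000000000000000000000000000000ff0000000000000000000000000000000000000000000000ff0000000000000000000000000000000000000000000000ff0000000000000000000000000000000000000000000000ff0000000000000000000000000000000000000000000000ff0000000000000000000000000000000000000000000000ff0000000000000000000000000000000000000000000000ff0000000000000000000000000000000000000000000000ff0000000000000000000000000000000000000000000000ff0000000000000000000000000000000000000000000000ff0000000000000000000000000000000000000000000000ff0000000000000000000000000000000000000000000000ff0000000000000000000000000000000000000000000000ff0000000000000000000000000000000000000000000000ff0000000000000000000000000000000000000000000000ff0000000000000000000000000000000000000000000000ff0000000000000000000000000000000000000000000000ff0000000000000000000000000000000000000000000000ff0000000000000000000000000000000000000000000000ff0000000000000000000000000000000000000000000000ff0000000000000000000000000000000000000000000000ff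

theorem sel24_eq : sel24 = sel 24 := by decide +kernel

/-- One folding step. -/
def fold (k m m' x : ℕ) : ℕ := frc x fun x => (x &&& m) + ((x >>> k) &&& m')

/-- All bytes modulo three, for bytes below 97. -/
def reduce (x : ℕ) : ℕ :=
  frc (fold 4 m15 m15 x) fun x => frc (fold 2 m3 m63 x) fun x => frc (fold 2 m3 m63 x) fun x =>
  frc (fold 2 m3 m63 x) fun x => frc (fold 2 m3 m63 x) fun x =>
    frc (x + ((x &&& m1) &&& ((x >>> 1) &&& m1))) fun x => x &&& m3

/-- A folding step on one byte. -/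
def foldB (k c c' a : ℕ) : ℕ := (a &&& c) + ((a >>> k) &&& c')

theorem encL_add : ∀ (l : List ℕ) (f g : ℕ → ℕ), encL (l.map f) + encL (l.map g) = encL (l.map fun a => f a + g a)
  | [], _, _ => rfl
  | a :: as, f, g => by
    simp only [List.map_cons, encL, ← encL_add as f g]
    ring

theorem encL_and : ∀ (l : List ℕ) (f g : ℕ → ℕ), (∀ a ∈ l, f a < 256) → (∀ a ∈ l, g a < 256) →
    encL (l.map f) &&& encL (l.map g) = encL (l.map fun a => f a &&& g a)
  | [], _, _, _, _ => by simp [encL]
  | a :: as, f, g, hf, hg => by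
    simp only [List.map_cons, encL,
      ← encL_and as f g (fun x hx => hf x (List.mem_cons_of_mem _ hx)) (fun x hx => hg x (List.mem_cons_of_mem _ hx))]
    have := split_and (w := 8) (encL (as.map f)) (f a) 0 (encL (as.map g)) (g a) (hf a List.mem_cons_self)
      (Nat.zero_le _) (hg a List.mem_cons_self)
    simpa using this

theorem fold_encL {l : List ℕ} {k c c' : ℕ} (h : ∀ a ∈ l, a < 256) (hl : l.length ≤ 576) (hk : k ≤ 8)
    (hc : c < 256) (hc' : c' < 2 ^ (8 - k)) : fold k (rep 576 c) (rep 576 c') (encL l) = encL (l.map (foldB k c c')) := by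
  rw [fold, frc_eq, shift_and_encL l 576 k c' h hl hk hc',
    show encL l &&& rep 576 c = (encL l >>> 0) &&& rep 576 c by rw [Nat.shiftRight_zero],
    shift_and_encL l 576 0 c h hl (by norm_num) hc, encL_add]
  rfl

theorem reduce_encL {l : List ℕ} (h : ∀ a ∈ l, a < 97) (hl : l.length ≤ 576) :
    reduce (encL l) = encL (l.map (· % 3)) := by
  have h1 : ∀ a < 97, foldB 4 15 15 a < 256 ∧ foldB 2 3 63 (foldB 4 15 15 a) < 256 ∧
      foldB 2 3 63 (foldB 2 3 63 (foldB 4 15 15 a)) < 256 ∧
      foldB 2 3 63 (foldB 2 3 63 (foldB 2 3 63 (foldB 4 15 15 a))) < 256 ∧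
      (let y := foldB 2 3 63 (foldB 2 3 63 (foldB 2 3 63 (foldB 2 3 63 (foldB 4 15 15 a))))
       y < 255 ∧ (y + ((y &&& 1) &&& ((y >>> 1) &&& 1))) &&& 3 = a % 3) := by decide +kernel
  have ll : ∀ {f : ℕ → ℕ}, (l.map f).length ≤ 576 := fun {f} => by simpa using hl
  have sh : ∀ f : ℕ → ℕ, (∀ a ∈ l, f a < 256) → ∀ a ∈ l.map f, a < 256 := fun f hf a ha => by
    obtain ⟨b, hb, rfl⟩ := List.mem_map.1 ha
    exact hf b hb
  rw [reduce]
  simp only [frc_eq, m1_eq, m3_eq, m15_eq, m63_eq]
  have step : ∀ f : ℕ → ℕ, (∀ a ∈ l, f a < 256) →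
      fold 2 (rep 576 3) (rep 576 63) (encL (l.map f)) = encL (l.map fun a => foldB 2 3 63 (f a)) := fun f hf => by
    rw [fold_encL (sh _ hf) ll (by norm_num) (by norm_num) (by norm_num), List.map_map]
    rfl
  rw [fold_encL (fun a ha => lt_trans (h a ha) (by norm_num)) hl (by norm_num) (by norm_num) (by norm_num),
    step _ fun a ha => (h1 a (h a ha)).1, step _ fun a ha => (h1 a (h a ha)).2.1,
    step _ fun a ha => (h1 a (h a ha)).2.2.1, step _ fun a ha => (h1 a (h a ha)).2.2.2.1]
  set Y := l.map _ with hY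
  have hY255 : ∀ a ∈ Y, a < 255 := fun a ha => by
    obtain ⟨b, hb, rfl⟩ := List.mem_map.1 ha
    exact (h1 b (h b hb)).2.2.2.2.1
  have hY256 : ∀ a ∈ Y, a < 256 := fun a ha => lt_trans (hY255 a ha) (by norm_num)
  have hlY : Y.length ≤ 576 := by rw [hY]; exact ll
  rw [show encL Y &&& rep 576 1 = (encL Y >>> 0) &&& rep 576 1 by rw [Nat.shiftRight_zero],
    shift_and_encL Y 576 0 1 hY256 hlY (by norm_num) (by norm_num),
    shift_and_encL Y 576 1 1 hY256 hlY (by norm_num) (by norm_num),
    encL_and _ _ _ (fun a _ => lt_of_le_of_lt Nat.and_le_right (by norm_num))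
      (fun a _ => lt_of_le_of_lt Nat.and_le_right (by norm_num))]
  nth_rw 1 [← List.map_id Y]
  rw [encL_add]
  set Z := Y.map _ with hZ
  have hZ256 : ∀ a ∈ Z, a < 256 := fun a ha => by
    obtain ⟨b, hb, rfl⟩ := List.mem_map.1 ha
    have := hY255 b hb
    have : ((b >>> 0) &&& 1) &&& ((b >>> 1) &&& 1) ≤ 1 := le_trans Nat.and_le_left Nat.and_le_right
    simp only [id_eq]
    omega
  rw [show encL Z &&& rep 576 3 = (encL Z >>> 0) &&& rep 576 3 by rw [Nat.shiftRight_zero],
    shift_and_encL Z 576 0 3 hZ256 (by rw [hZ, List.length_map]; exact hlY) (by norm_num) (by norm_num),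
    hZ, hY, List.map_map, List.map_map]
  refine congrArg encL (List.map_congr_left fun a ha => ?_)
  have e := (h1 a (h a ha)).2.2.2.2.2
  simpa [Function.comp_def] using e

/-! ### Products -/

/-- The sum over the rows `i, i + 1, …` of a matrix times the bytes `i, i + 1, …` of the rows of another. -/
def dotFrom : ℕ → ℕ → ℕ → ℕ → ℕ → ℕ
  | _, _, _, _, 0 => 0
  | a, b, s, i, m + 1 =>
    frc (dotFrom a b s (i + 1) m) fun acc =>
      ((b >>> (8 * i)) &&& s) * ((a >>> (192 * i)) &&& (2 ^ 192 - 1)) + acc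

/-- The product, the second acting first. -/
def mulP (a b : ℕ) : ℕ := frc a fun a => frc b fun b => reduce (dotFrom a b sel24 0 24)

/-- The image of a vector. -/
def appP (a v : ℕ) : ℕ := frc a fun a => frc v fun v => reduce (dotFrom a v 255 0 24)

/-- A matrix from its rows. -/
def encM (A : List (List ℕ)) : ℕ := encL A.flatten

/-- Twenty-four residues. -/
def Vec3 (l : List ℕ) : Prop := l.length = 24 ∧ ∀ a ∈ l, a < 3

/-- Twenty-four rows. -/
def Mat3 (A : List (List ℕ)) : Prop := A.length = 24 ∧ ∀ r ∈ A, Vec3 r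

/-- An unreduced image. -/
def rawRow (A : List (List ℕ)) (l : List ℕ) : List ℕ :=
  (List.range 24).map fun j => ∑ i ∈ range 24, l.getD i 0 * (A.getD i []).getD j 0

theorem flatten_length {L : List (List ℕ)} (h : ∀ r ∈ L, r.length = 24) : L.flatten.length = 24 * L.length := by
  induction L with
  | nil => rfl
  | cons r L ih =>
    rw [List.flatten_cons, List.length_append, ih fun x hx => h x (List.mem_cons_of_mem _ hx),
      h r List.mem_cons_self, List.length_cons]
    ring

theorem flatten_lt {L : List (List ℕ)} {b : ℕ} (h : ∀ r ∈ L, ∀ a ∈ r, a < b) : ∀ a ∈ L.flatten, a < b :=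
  fun a ha => by
    obtain ⟨r, hr, ha⟩ := List.mem_flatten.1 ha
    exact h r hr a ha

theorem encM_cons {r : List ℕ} (hr : r.length = 24) (B : List (List ℕ)) :
    encM (r :: B) = encL r + 2 ^ 192 * encM B := by
  rw [encM, List.flatten_cons, encL_append, hr]
  rfl

theorem encL_shiftRight {l : List ℕ} (h : ∀ a ∈ l, a < 256) : ∀ i, encL l >>> (8 * i) = encL (l.drop i) := by
  induction l with
  | nil => intro i; simp [encL]
  | cons a as ih =>
    intro i
    cases i with
    | zero => simp
    | succ i =>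
      rw [List.drop_succ_cons, ← ih (fun x hx => h x (List.mem_cons_of_mem _ hx)) i,
        show 8 * (i + 1) = 8 + 8 * i by omega, Nat.shiftRight_add, encL]
      congr 1
      rw [Nat.shiftRight_eq_div_pow]
      have ha := h a List.mem_cons_self
      omega

theorem sel_encM : ∀ {B : List (List ℕ)}, (∀ r ∈ B, r.length = 24 ∧ ∀ a ∈ r, a < 256) → ∀ {i : ℕ}, i < 24 →
    ∀ {n : ℕ}, B.length = n → (encM B >>> (8 * i)) &&& sel n =
      (B.map fun r => r.getD i 0).foldr (fun x acc => x + 2 ^ 192 * acc) 0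
  | [], _, i, _, n, hn => by subst hn; simp [sel, encM, encL]
  | r :: B, h, i, hi, n + 1, hn => by
    obtain ⟨hr, hlt⟩ := h r List.mem_cons_self
    have hlt' : encL r < 2 ^ 192 := by have := encL_lt r hlt; rwa [hr] at this
    have h255 : (255 : ℕ) < 2 ^ (192 - 8 * i) :=
      lt_of_lt_of_le (show (255 : ℕ) < 2 ^ 8 by norm_num) (Nat.pow_le_pow_right two_pos (by omega))
    rw [encM_cons hr, sel, split_and _ _ _ _ _ hlt' (by omega) h255,
      sel_encM (fun x hx => h x (List.mem_cons_of_mem _ hx)) hi (Nat.succ.inj hn), List.map_cons,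
      List.foldr_cons, encL_shiftRight hlt]
    congr 1
    have hd : r.drop i = r.getD i 0 :: r.drop (i + 1) := by
      rw [List.getD_eq_getElem _ _ (hr.symm ▸ hi), List.cons_getElem_drop_succ]
    rw [hd, encL, show (255 : ℕ) = 2 ^ 8 - 1 from rfl, Nat.and_two_pow_sub_one_eq_mod, Nat.add_mul_mod_self_left,
      Nat.mod_eq_of_lt]
    have : r.getD i 0 ∈ r := by rw [List.getD_eq_getElem _ _ (hr.symm ▸ hi)]; exact List.getElem_mem _
    exact hlt _ this

theorem row_encM : ∀ {A : List (List ℕ)}, (∀ r ∈ A, r.length = 24 ∧ ∀ a ∈ r, a < 256) → ∀ {i : ℕ},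
    i < A.length → (encM A >>> (192 * i)) &&& (2 ^ 192 - 1) = encL (A.getD i [])
  | [], _, i, hi => by simp at hi
  | r :: A, h, i, hi => by
    obtain ⟨hr, hlt⟩ := h r List.mem_cons_self
    have hlt' : encL r < 2 ^ 192 := by have := encL_lt r hlt; rwa [hr] at this
    rw [encM_cons hr, Nat.and_two_pow_sub_one_eq_mod]
    cases i with
    | zero => rw [Nat.mul_zero, Nat.shiftRight_zero, Nat.add_mul_mod_self_left, Nat.mod_eq_of_lt hlt',
        List.getD_cons_zero]
    | succ i =>
      rw [List.getD_cons_succ, ← row_encM (fun x hx => h x (List.mem_cons_of_mem _ hx))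
        (show i < A.length by simpa using hi), Nat.and_two_pow_sub_one_eq_mod,
        show 192 * (i + 1) = 192 + 192 * i by omega, Nat.shiftRight_add]
      congr 2
      rw [Nat.shiftRight_eq_div_pow, Nat.add_mul_div_left _ _ (Nat.two_pow_pos _), Nat.div_eq_of_lt hlt',
        Nat.zero_add]

theorem dotFrom_eq (a b s : ℕ) : ∀ (m i : ℕ), dotFrom a b s i m =
    ∑ j ∈ range m, ((b >>> (8 * (i + j))) &&& s) * ((a >>> (192 * (i + j))) &&& (2 ^ 192 - 1))
  | 0, i => by rw [dotFrom, sum_range_zero]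
  | m + 1, i => by
    rw [dotFrom, frc_eq, dotFrom_eq a b s m (i + 1), sum_range_succ', Nat.add_comm]
    congr 1
    exact sum_congr rfl fun j _ => by rw [show i + 1 + j = i + (j + 1) by omega]

theorem encL_mul_sum (c : ℕ → ℕ) (R : ℕ → List ℕ) : ∀ (m : ℕ), (∀ i < 24, (R i).length = m) →
    encL ((List.range m).map fun j => ∑ i ∈ range 24, c i * (R i).getD j 0) = ∑ i ∈ range 24, c i * encL (R i) := by
  intro m
  induction m generalizing R with
  | zero =>
    intro h
    rw [List.range_zero, List.map_nil, encL]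
    exact (sum_eq_zero fun i hi => by rw [List.length_eq_zero_iff.1 (h i (mem_range.1 hi)), encL, mul_zero]).symm
  | succ m ih =>
    intro h
    rw [List.range_succ_eq_map, List.map_cons, List.map_map, encL]
    have e : ∀ i ∈ range 24, R i = (R i).getD 0 0 :: (R i).tail := fun i hi => by
      have := h i (mem_range.1 hi)
      cases hR : R i with
      | nil => simp [hR] at this
      | cons x xs => simp
    have e2 : ∀ i ∈ range 24, c i * encL (R i) = c i * (R i).getD 0 0 + 2 ^ 8 * (c i * encL (R i).tail) :=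
      fun i hi => by
        have h2 : encL (R i) = (R i).getD 0 0 + 2 ^ 8 * encL (R i).tail := congrArg encL (e i hi)
        rw [h2]
        ring
    rw [sum_congr rfl e2, sum_add_distrib, ← mul_sum,
      ← ih (fun i => (R i).tail) fun i hi => by rw [List.length_tail, h i hi]; omega]
    rw [show (List.range m).map ((fun j => ∑ i ∈ range 24, c i * (R i).getD j 0) ∘ Nat.succ) =
      (List.range m).map (fun j => ∑ i ∈ range 24, c i * (R i).tail.getD j 0) from
        List.map_congr_left fun j _ => sum_congr rfl fun i hi => congrArg (c i * ·)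
          (congrArg (fun z : List ℕ => z.getD (j + 1) 0) (e i hi) :
            (R i).getD (j + 1) 0 = (R i).tail.getD j 0)]

theorem dot_row {A : List (List ℕ)} (hA : Mat3 A) (l : List ℕ) :
    encL (rawRow A l) = ∑ i ∈ range 24, l.getD i 0 * encL (A.getD i []) :=
  encL_mul_sum _ _ 24 fun i hi => by
    rw [List.getD_eq_getElem _ _ (hA.1.symm ▸ hi)]
    exact (hA.2 _ (List.getElem_mem _)).1

theorem rawRow_lt {A : List (List ℕ)} (hA : Mat3 A) {l : List ℕ} (hl : Vec3 l) : ∀ a ∈ rawRow A l, a < 97 := by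
  intro a ha
  obtain ⟨j, -, rfl⟩ := List.mem_map.1 ha
  have hget : ∀ {r : List ℕ}, (∀ x ∈ r, x < 3) → ∀ i, r.getD i 0 ≤ 2 := fun {r} hr i => by
    by_cases h : i < r.length
    · rw [List.getD_eq_getElem _ _ h]; exact Nat.le_of_lt_succ (hr _ (List.getElem_mem _))
    · simp [List.getD_eq_getElem?_getD, List.getElem?_eq_none (Nat.le_of_not_lt h)]
  have : ∀ i ∈ range 24, l.getD i 0 * (A.getD i []).getD j 0 ≤ 4 := fun i hi => by
    have h1 := hget hl.2 i
    have h2 := hget (hA.2 _ (by
      rw [List.getD_eq_getElem _ _ (hA.1.symm ▸ mem_range.1 hi)]; exact List.getElem_mem _ :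
      A.getD i [] ∈ A)).2 j
    exact le_trans (Nat.mul_le_mul h1 h2) (by norm_num)
  have := Finset.sum_le_card_nsmul _ _ _ this
  simp at this ⊢
  omega

/-- The reduced image. -/
def mulRowL (A : List (List ℕ)) (l : List ℕ) : List ℕ := (rawRow A l).map (· % 3)

theorem vec3_mulRowL (A : List (List ℕ)) (l : List ℕ) : Vec3 (mulRowL A l) :=
  ⟨by simp [mulRowL, rawRow], fun a ha => by
    obtain ⟨b, -, rfl⟩ := List.mem_map.1 ha
    exact Nat.mod_lt _ (by norm_num)⟩

theorem small_bytes {A : List (List ℕ)} (hA : Mat3 A) : ∀ r ∈ A, r.length = 24 ∧ ∀ a ∈ r, a < 256 :=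
  fun r hr => ⟨(hA.2 r hr).1, fun a ha => lt_trans ((hA.2 r hr).2 a ha) (by norm_num)⟩

theorem appP_enc {A : List (List ℕ)} (hA : Mat3 A) {l : List ℕ} (hl : Vec3 l) :
    appP (encM A) (encL l) = encL (mulRowL A l) := by
  rw [appP, frc_eq, frc_eq, dotFrom_eq]
  have e : ∀ i ∈ range 24, ((encL l >>> (8 * (0 + i))) &&& 255) *
      ((encM A >>> (192 * (0 + i))) &&& (2 ^ 192 - 1)) = l.getD i 0 * encL (A.getD i []) := fun i hi => by
    have hB : ∀ r ∈ [l], r.length = 24 ∧ ∀ a ∈ r, a < 256 := by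
      simp only [List.mem_singleton, forall_eq]
      exact ⟨hl.1, fun a ha => lt_trans (hl.2 a ha) (by norm_num)⟩
    have h1 := sel_encM hB (mem_range.1 hi) (n := 1) rfl
    simp only [encM, List.flatten_singleton, sel, Nat.mul_zero, Nat.add_zero, List.map_cons, List.map_nil,
      List.foldr_cons, List.foldr_nil] at h1
    rw [Nat.zero_add, h1, row_encM (small_bytes hA) (hA.1.symm ▸ mem_range.1 hi)]
  rw [sum_congr rfl e, ← dot_row hA, reduce_encL (rawRow_lt hA hl) (by simp [rawRow])]
  rfl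

theorem mulP_enc {A B : List (List ℕ)} (hA : Mat3 A) (hB : Mat3 B) :
    mulP (encM A) (encM B) = encM (B.map (mulRowL A)) := by
  rw [mulP, frc_eq, frc_eq, dotFrom_eq, sel24_eq]
  have hBb := small_bytes hB
  have e : ∀ i ∈ range 24, ((encM B >>> (8 * (0 + i))) &&& sel 24) *
      ((encM A >>> (192 * (0 + i))) &&& (2 ^ 192 - 1)) =
      (B.map fun r => r.getD i 0).foldr (fun x acc => x + 2 ^ 192 * acc) 0 * encL (A.getD i []) := fun i hi => by
    rw [Nat.zero_add, sel_encM hBb (mem_range.1 hi) hB.1, row_encM (small_bytes hA) (hA.1.symm ▸ mem_range.1 hi)]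
  rw [sum_congr rfl e]
  have key : ∀ L : List (List ℕ), ∑ i ∈ range 24,
      (L.map fun r => r.getD i 0).foldr (fun x acc => x + 2 ^ 192 * acc) 0 * encL (A.getD i []) =
      encM (L.map (rawRow A)) := by
    intro L
    induction L with
    | nil => simp [encM, encL]
    | cons r L ih =>
      rw [List.map_cons, encM_cons (by simp [rawRow]), ← ih, dot_row hA, mul_sum, ← sum_add_distrib]
      refine sum_congr rfl fun i _ => ?_
      rw [List.map_cons, List.foldr_cons]
      ring
  have hrows : ∀ r ∈ B.map (rawRow A), r.length = 24 := by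
    intro r hr
    obtain ⟨x, -, rfl⟩ := List.mem_map.1 hr
    simp [rawRow]
  rw [key, encM, reduce_encL (flatten_lt fun r hr => by
      obtain ⟨x, hx, rfl⟩ := List.mem_map.1 hr
      exact rawRow_lt hA (hB.2 x hx))
    (by rw [flatten_length hrows, List.length_map, hB.1]), encM, List.map_flatten, List.map_map]
  rfl

/-! ### Semantics -/

/-- The vector of a list. -/
def dec (l : List ℕ) : Fin 24 → ZMod 3 := fun i => (l.getD i 0 : ℕ)

/-- The linear map of a list of rows. -/
def lin (A : List (List ℕ)) (x : Fin 24 → ZMod 3) : Fin 24 → ZMod 3 := ∑ i : Fin 24, x i • dec (A.getD i [])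

theorem dec_mulRowL (A : List (List ℕ)) (l : List ℕ) : dec (mulRowL A l) = lin A (dec l) := by
  funext j
  simp only [dec, lin, mulRowL, rawRow, Finset.sum_apply, Pi.smul_apply, smul_eq_mul]
  rw [List.getD_eq_getElem _ _ (by simp), List.getElem_map, List.getElem_map, List.getElem_range,
    ZMod.natCast_mod, Nat.cast_sum,
    ← Fin.sum_univ_eq_sum_range (fun i => ((l.getD i 0 * (A.getD i []).getD j 0 : ℕ) : ZMod 3)) 24]
  push_cast
  rfl

theorem dec_injective {a b : List ℕ} (ha : Vec3 a) (hb : Vec3 b) (h : dec a = dec b) : a = b := by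
  refine List.ext_getElem (ha.1.trans hb.1.symm) fun i h1 h2 => ?_
  have := congrFun h ⟨i, ha.1 ▸ h1⟩
  simp only [dec] at this
  rw [List.getD_eq_getElem _ _ h1, List.getD_eq_getElem _ _ h2, ZMod.natCast_eq_natCast_iff'] at this
  rwa [Nat.mod_eq_of_lt (ha.2 _ (List.getElem_mem _)), Nat.mod_eq_of_lt (hb.2 _ (List.getElem_mem _))] at this

end Cfsg.Agent.Lib.PcMult.Leech
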