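import Cfsg.Agent.Lib.LeechAut.Moments
import Cfsg.Agent.Lib.PcMult.Leech.Packed

/-!
Elements of `Co0` given by integer matrices, and their faithful action modulo three.

A matrix lists, for every coordinate, the image of eight times the unit vector.
-/

set_option autoImplicit false
set_option maxRecDepth 10000

namespace Cfsg.Agent.Lib.PcMult.Leech

open Cfsg Cfsg.Agent.Golay.Basic Cfsg.Agent.Leech.Basic Cfsg.Agent.Leech.Gen Cfsg.Agent.Leech.Index
  Cfsg.Agent.LeechAut.Gens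
  Cfsg.Agent.LeechAut.Basic Cfsg.Agent.LeechAut Finset

/-- An integer matrix. -/
abbrev Mat := List (List ℤ)

/-- An entry. -/
def ent (M : Mat) (i j : ℕ) : ℤ := (M.getD i []).getD j 0

/-- Eight times the image of a vector. -/
def mapZ (M : Mat) (v : Vec) : Vec := fun q => ∑ i : Fin 24, v (pt i) * ent M i (ix q)

/-- The image of a vector. -/
def img (M : Mat) (v : Vec) : Vec := fun q => mapZ M v q / 8

/-- The generators of the lattice. -/
def genList : List Vec :=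
  oddVec :: (((List.range 23).flatMap fun i => [pairVec (pt i) 1, pairVec (pt i) (-1)]) ++
    basisMasks.map fun b => twoInd (maskSet b))

/-- The generators of the lattice as lists. -/
def genLit : List (List ℤ) := [
  [1, 1, 1, 1, 1, 1, 1, 1, 1, 1, 1, 1, 1, 1, 1, 1, 1, 1, 1, 1, 1, 1, 1, -3],
  [4, 0, 0, 0, 0, 0, 0, 0, 0, 0, 0, 0, 0, 0, 0, 0, 0, 0, 0, 0, 0, 0, 0, 4],
  [4, 0, 0, 0, 0, 0, 0, 0, 0, 0, 0, 0, 0, 0, 0, 0, 0, 0, 0, 0, 0, 0, 0, -4],
  [0, 4, 0, 0, 0, 0, 0, 0, 0, 0, 0, 0, 0, 0, 0, 0, 0, 0, 0, 0, 0, 0, 0, 4],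
  [0, 4, 0, 0, 0, 0, 0, 0, 0, 0, 0, 0, 0, 0, 0, 0, 0, 0, 0, 0, 0, 0, 0, -4],
  [0, 0, 4, 0, 0, 0, 0, 0, 0, 0, 0, 0, 0, 0, 0, 0, 0, 0, 0, 0, 0, 0, 0, 4],
  [0, 0, 4, 0, 0, 0, 0, 0, 0, 0, 0, 0, 0, 0, 0, 0, 0, 0, 0, 0, 0, 0, 0, -4],
  [0, 0, 0, 4, 0, 0, 0, 0, 0, 0, 0, 0, 0, 0, 0, 0, 0, 0, 0, 0, 0, 0, 0, 4],
  [0, 0, 0, 4, 0, 0, 0, 0, 0, 0, 0, 0, 0, 0, 0, 0, 0, 0, 0, 0, 0, 0, 0, -4],
  [0, 0, 0, 0, 4, 0, 0, 0, 0, 0, 0, 0, 0, 0, 0, 0, 0, 0, 0, 0, 0, 0, 0, 4],
  [0, 0, 0, 0, 4, 0, 0, 0, 0, 0, 0, 0, 0, 0, 0, 0, 0, 0, 0, 0, 0, 0, 0, -4],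
  [0, 0, 0, 0, 0, 4, 0, 0, 0, 0, 0, 0, 0, 0, 0, 0, 0, 0, 0, 0, 0, 0, 0, 4],
  [0, 0, 0, 0, 0, 4, 0, 0, 0, 0, 0, 0, 0, 0, 0, 0, 0, 0, 0, 0, 0, 0, 0, -4],
  [0, 0, 0, 0, 0, 0, 4, 0, 0, 0, 0, 0, 0, 0, 0, 0, 0, 0, 0, 0, 0, 0, 0, 4],
  [0, 0, 0, 0, 0, 0, 4, 0, 0, 0, 0, 0, 0, 0, 0, 0, 0, 0, 0, 0, 0, 0, 0, -4],
  [0, 0, 0, 0, 0, 0, 0, 4, 0, 0, 0, 0, 0, 0, 0, 0, 0, 0, 0, 0, 0, 0, 0, 4],
  [0, 0, 0, 0, 0, 0, 0, 4, 0, 0, 0, 0, 0, 0, 0, 0, 0, 0, 0, 0, 0, 0, 0, -4],
  [0, 0, 0, 0, 0, 0, 0, 0, 4, 0, 0, 0, 0, 0, 0, 0, 0, 0, 0, 0, 0, 0, 0, 4],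
  [0, 0, 0, 0, 0, 0, 0, 0, 4, 0, 0, 0, 0, 0, 0, 0, 0, 0, 0, 0, 0, 0, 0, -4],
  [0, 0, 0, 0, 0, 0, 0, 0, 0, 4, 0, 0, 0, 0, 0, 0, 0, 0, 0, 0, 0, 0, 0, 4],
  [0, 0, 0, 0, 0, 0, 0, 0, 0, 4, 0, 0, 0, 0, 0, 0, 0, 0, 0, 0, 0, 0, 0, -4],
  [0, 0, 0, 0, 0, 0, 0, 0, 0, 0, 4, 0, 0, 0, 0, 0, 0, 0, 0, 0, 0, 0, 0, 4],
  [0, 0, 0, 0, 0, 0, 0, 0, 0, 0, 4, 0, 0, 0, 0, 0, 0, 0, 0, 0, 0, 0, 0, -4],
  [0, 0, 0, 0, 0, 0, 0, 0, 0, 0, 0, 4, 0, 0, 0, 0, 0, 0, 0, 0, 0, 0, 0, 4],
  [0, 0, 0, 0, 0, 0, 0, 0, 0, 0, 0, 4, 0, 0, 0, 0, 0, 0, 0, 0, 0, 0, 0, -4],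
  [0, 0, 0, 0, 0, 0, 0, 0, 0, 0, 0, 0, 4, 0, 0, 0, 0, 0, 0, 0, 0, 0, 0, 4],
  [0, 0, 0, 0, 0, 0, 0, 0, 0, 0, 0, 0, 4, 0, 0, 0, 0, 0, 0, 0, 0, 0, 0, -4],
  [0, 0, 0, 0, 0, 0, 0, 0, 0, 0, 0, 0, 0, 4, 0, 0, 0, 0, 0, 0, 0, 0, 0, 4],
  [0, 0, 0, 0, 0, 0, 0, 0, 0, 0, 0, 0, 0, 4, 0, 0, 0, 0, 0, 0, 0, 0, 0, -4],
  [0, 0, 0, 0, 0, 0, 0, 0, 0, 0, 0, 0, 0, 0, 4, 0, 0, 0, 0, 0, 0, 0, 0, 4],
  [0, 0, 0, 0, 0, 0, 0, 0, 0, 0, 0, 0, 0, 0, 4, 0, 0, 0, 0, 0, 0, 0, 0, -4],
  [0, 0, 0, 0, 0, 0, 0, 0, 0, 0, 0, 0, 0, 0, 0, 4, 0, 0, 0, 0, 0, 0, 0, 4],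
  [0, 0, 0, 0, 0, 0, 0, 0, 0, 0, 0, 0, 0, 0, 0, 4, 0, 0, 0, 0, 0, 0, 0, -4],
  [0, 0, 0, 0, 0, 0, 0, 0, 0, 0, 0, 0, 0, 0, 0, 0, 4, 0, 0, 0, 0, 0, 0, 4],
  [0, 0, 0, 0, 0, 0, 0, 0, 0, 0, 0, 0, 0, 0, 0, 0, 4, 0, 0, 0, 0, 0, 0, -4],
  [0, 0, 0, 0, 0, 0, 0, 0, 0, 0, 0, 0, 0, 0, 0, 0, 0, 4, 0, 0, 0, 0, 0, 4],
  [0, 0, 0, 0, 0, 0, 0, 0, 0, 0, 0, 0, 0, 0, 0, 0, 0, 4, 0, 0, 0, 0, 0, -4],
  [0, 0, 0, 0, 0, 0, 0, 0, 0, 0, 0, 0, 0, 0, 0, 0, 0, 0, 4, 0, 0, 0, 0, 4],
  [0, 0, 0, 0, 0, 0, 0, 0, 0, 0, 0, 0, 0, 0, 0, 0, 0, 0, 4, 0, 0, 0, 0, -4],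
  [0, 0, 0, 0, 0, 0, 0, 0, 0, 0, 0, 0, 0, 0, 0, 0, 0, 0, 0, 4, 0, 0, 0, 4],
  [0, 0, 0, 0, 0, 0, 0, 0, 0, 0, 0, 0, 0, 0, 0, 0, 0, 0, 0, 4, 0, 0, 0, -4],
  [0, 0, 0, 0, 0, 0, 0, 0, 0, 0, 0, 0, 0, 0, 0, 0, 0, 0, 0, 0, 4, 0, 0, 4],
  [0, 0, 0, 0, 0, 0, 0, 0, 0, 0, 0, 0, 0, 0, 0, 0, 0, 0, 0, 0, 4, 0, 0, -4],
  [0, 0, 0, 0, 0, 0, 0, 0, 0, 0, 0, 0, 0, 0, 0, 0, 0, 0, 0, 0, 0, 4, 0, 4],
  [0, 0, 0, 0, 0, 0, 0, 0, 0, 0, 0, 0, 0, 0, 0, 0, 0, 0, 0, 0, 0, 4, 0, -4],
  [0, 0, 0, 0, 0, 0, 0, 0, 0, 0, 0, 0, 0, 0, 0, 0, 0, 0, 0, 0, 0, 0, 4, 4],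
  [0, 0, 0, 0, 0, 0, 0, 0, 0, 0, 0, 0, 0, 0, 0, 0, 0, 0, 0, 0, 0, 0, 4, -4],
  [2, 0, 0, 0, 0, 0, 0, 0, 0, 0, 0, 0, 2, 0, 2, 0, 2, 2, 2, 0, 0, 0, 2, 2],
  [0, 2, 0, 0, 0, 0, 0, 0, 0, 0, 0, 0, 2, 2, 2, 2, 2, 0, 0, 2, 0, 0, 2, 0],
  [0, 0, 2, 0, 0, 0, 0, 0, 0, 0, 0, 0, 2, 2, 0, 2, 0, 0, 2, 0, 2, 0, 2, 2],
  [0, 0, 0, 2, 0, 0, 0, 0, 0, 0, 0, 0, 2, 2, 0, 0, 0, 2, 2, 2, 0, 2, 2, 0],
  [0, 0, 0, 0, 2, 0, 0, 0, 0, 0, 0, 0, 2, 2, 0, 0, 2, 2, 0, 2, 2, 0, 0, 2],
  [0, 0, 0, 0, 0, 2, 0, 0, 0, 0, 0, 0, 0, 2, 2, 0, 0, 2, 2, 0, 2, 2, 0, 2],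
  [0, 0, 0, 0, 0, 0, 2, 0, 0, 0, 0, 0, 0, 0, 2, 2, 0, 0, 2, 2, 0, 2, 2, 2],
  [0, 0, 0, 0, 0, 0, 0, 2, 0, 0, 0, 0, 2, 0, 2, 2, 0, 2, 2, 2, 2, 0, 0, 0],
  [0, 0, 0, 0, 0, 0, 0, 0, 2, 0, 0, 0, 0, 2, 0, 2, 2, 0, 2, 2, 2, 2, 0, 0],
  [0, 0, 0, 0, 0, 0, 0, 0, 0, 2, 0, 0, 0, 0, 2, 0, 2, 2, 0, 2, 2, 2, 2, 0],
  [0, 0, 0, 0, 0, 0, 0, 0, 0, 0, 2, 0, 2, 0, 2, 2, 2, 0, 0, 0, 2, 2, 0, 2],
  [0, 0, 0, 0, 0, 0, 0, 0, 0, 0, 0, 2, 0, 2, 0, 2, 2, 2, 0, 0, 0, 2, 2, 2]]

theorem genLit_eq : genLit = genList.map lst := by decide +kernel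

/-- Evaluate a list of integers before it is shared. -/
def frcZ {α : Type} : List ℤ → (List ℤ → α) → α
  | [], k => k []
  | Int.ofNat a :: as, k => frc a fun a => frcZ as fun as => k (Int.ofNat a :: as)
  | Int.negSucc a :: as, k => frc a fun a => frcZ as fun as => k (Int.negSucc a :: as)

theorem frcZ_eq {α : Type} : ∀ (l : List ℤ) (k : List ℤ → α), frcZ l k = k l
  | [], _ => rfl
  | Int.ofNat a :: as, k => by rw [frcZ, frc_eq, frcZ_eq as]
  | Int.negSucc a :: as, k => by rw [frcZ, frc_eq, frcZ_eq as]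

/-- Eight times the image of a list. -/
def mapL : List ℤ → Mat → List ℤ
  | a :: as, r :: rs =>
    if a = 0 then mapL as rs else frcZ (mapL as rs) fun acc => List.zipWith (fun x y => a * x + y) r acc
  | _, _ => List.replicate 24 0

/-- Twenty-four rows of twenty-four entries. -/
def shape (M : Mat) : Bool := M.length == 24 && M.all fun r => r.length == 24

/-- The rows are orthogonal of square length 64. -/
def orth (M : Mat) : Bool :=
  shape M && (List.range 24).all fun i => (List.range (i + 1)).all fun k =>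
    (List.zipWith (fun x y => x * y) (M.getD i []) (M.getD k [])).sum == if i = k then 64 else 0

/-- The matrix keeps the lattice. -/
def keeps (M : Mat) : Bool :=
  shape M && genLit.all fun l => frcZ (mapL l M) fun w =>
    (w.all fun c => c % 8 == 0) && frcZ (w.map fun c => c / 8) fun u => inLat (vec u)

/-- The matrix gives an element of `Co0`. -/
def okMat (M : Mat) : Bool := orth M && keeps M

theorem sum_range24 (f : ℕ → ℤ) : ((List.range 24).map f).sum = ∑ i : Fin 24, f i := by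
  rw [Fin.sum_univ_eq_sum_range f, ← List.sum_toFinset _ List.nodup_range, List.toFinset_range]

theorem shape_spec {M : Mat} (h : shape M = true) {i : ℕ} (hi : i < 24) : (M.getD i []).length = 24 := by
  simp only [shape, Bool.and_eq_true, beq_iff_eq, List.all_eq_true] at h
  rw [List.getD_eq_getElem _ _ (h.1 ▸ hi)]
  exact h.2 _ (List.getElem_mem _)

theorem orth_le {M : Mat} (h : orth M = true) (i k : Fin 24) (hki : (k : ℕ) ≤ i) :
    ∑ j : Fin 24, ent M i j * ent M k j = if i = k then 64 else 0 := by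
  simp only [orth, Bool.and_eq_true, List.all_eq_true, List.mem_range, beq_iff_eq] at h
  rw [← sum_range24 fun j => ent M i j * ent M k j,
    show (if i = k then (64 : ℤ) else 0) = if (i : ℕ) = k then 64 else 0 from if_congr Fin.ext_iff rfl rfl,
    ← h.2 i i.2 k (Nat.lt_succ_of_le hki)]
  congr 1
  have li := shape_spec h.1 i.2
  have lk := shape_spec h.1 k.2
  simp only [ent]
  generalize M.getD (i : ℕ) [] = A at li ⊢
  generalize M.getD (k : ℕ) [] = B at lk ⊢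
  refine List.ext_getElem (by simp [li, lk]) fun j h1 h2 => ?_
  simp only [List.length_map, List.length_range] at h1
  rw [List.getElem_map, List.getElem_zipWith, List.getElem_range, List.getD_eq_getElem _ _ (li.symm ▸ h1),
    List.getD_eq_getElem _ _ (lk.symm ▸ h1)]

theorem orth_spec {M : Mat} (h : orth M = true) (i k : Fin 24) :
    ∑ j : Fin 24, ent M i j * ent M k j = if i = k then 64 else 0 := by
  rcases le_total (k : ℕ) i with hki | hki
  · exact orth_le h i k hki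
  · rw [sum_congr rfl (g := fun j : Fin 24 => ent M k j * ent M i j) fun j _ => mul_comm _ _, orth_le h k i hki]
    exact if_congr eq_comm rfl rfl

theorem mapL_length : ∀ (l : List ℤ) (M : Mat), (∀ r ∈ M, r.length = 24) → (mapL l M).length = 24
  | a :: as, r :: rs, h => by
    have ih := mapL_length as rs fun x hx => h x (List.mem_cons_of_mem _ hx)
    rw [mapL, frcZ_eq]
    split_ifs
    · exact ih
    · rw [List.length_zipWith, h r List.mem_cons_self, ih, Nat.min_self]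
  | [], _, _ => by rw [mapL]; exacts [List.length_replicate, by simp]
  | _ :: _, [], _ => by rw [mapL]; exacts [List.length_replicate, by simp]

theorem mapL_getD : ∀ (l : List ℤ) (M : Mat), (∀ r ∈ M, r.length = 24) → l.length = M.length → ∀ {j : ℕ},
    j < 24 → (mapL l M).getD j 0 = ∑ i ∈ range l.length, l.getD i 0 * ent M i j
  | [], [], _, _, j, hj => by
    rw [mapL]
    · rw [List.getD_eq_getElem?_getD, List.getElem?_replicate, if_pos hj]; simp
    · simp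
  | a :: as, r :: rs, h, hl, j, hj => by
    have hrs : ∀ x ∈ rs, x.length = 24 := fun x hx => h x (List.mem_cons_of_mem _ hx)
    have ih := mapL_getD as rs hrs (by simpa using hl) hj
    rw [List.length_cons, sum_range_succ']
    simp only [List.getD_cons_zero, List.getD_cons_succ]
    have e : ∀ i, ent (r :: rs) (i + 1) j = ent rs i j := fun i => rfl
    simp only [e, ← ih]
    rw [mapL, frcZ_eq]
    have hr := h r List.mem_cons_self
    have hlen := mapL_length as rs hrs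
    split_ifs with ha
    · rw [ha, zero_mul, add_zero]
    · rw [List.getD_eq_getElem _ _ (by simp [hr, hlen, hj]), List.getElem_zipWith,
        List.getD_eq_getElem _ _ (hlen.symm ▸ hj), add_comm]
      show _ + a * r[j] = _ + a * r.getD j 0
      rw [List.getD_eq_getElem _ _ (hr.symm ▸ hj)]
  | [], _ :: _, _, hl, _, _ => by simp at hl
  | _ :: _, [], _, hl, _, _ => by simp at hl

theorem mapZ_add (M : Mat) (v w : Vec) : mapZ M (v + w) = mapZ M v + mapZ M w := by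
  funext q
  simp only [mapZ, Pi.add_apply, add_mul, sum_add_distrib]

theorem keeps_spec {M : Mat} (h : keeps M = true) {v : Vec} (hv : v ∈ leechLattice) :
    (∀ q, (8 : ℤ) ∣ mapZ M v q) ∧ img M v ∈ leechLattice := by
  let K : AddSubgroup Vec :=
    { carrier := {v | (∀ q, (8 : ℤ) ∣ mapZ M v q) ∧ img M v ∈ leechLattice}
      zero_mem' := by
        refine ⟨fun q => by simp [mapZ], ?_⟩
        convert zero_mem leechLattice using 1
        funext q
        simp [img, mapZ]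
      add_mem' := fun {a b} ha hb => by
        refine ⟨fun q => by rw [mapZ_add]; exact dvd_add (ha.1 q) (hb.1 q), ?_⟩
        convert add_mem ha.2 hb.2 using 1
        funext q
        simp only [img, mapZ_add, Pi.add_apply]
        exact Int.add_ediv_of_dvd_left (ha.1 q)
      neg_mem' := fun {a} ha => by
        have e : mapZ M (-a) = -mapZ M a := by funext q; simp [mapZ]
        refine ⟨fun q => by rw [e]; exact dvd_neg.2 (ha.1 q), ?_⟩
        convert neg_mem ha.2 using 1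
        funext q
        simp only [img, e, Pi.neg_apply]
        exact Int.neg_ediv_of_dvd (ha.1 q) }
  simp only [keeps, List.all_eq_true, Bool.and_eq_true, beq_iff_eq, frcZ_eq, genLit_eq, List.mem_map,
    forall_exists_index, and_imp, forall_apply_eq_imp_iff₂] at h
  have hsh := h.1
  simp only [shape, Bool.and_eq_true, beq_iff_eq, List.all_eq_true] at hsh
  have hK : ∀ v ∈ genList, v ∈ K := fun v hv => by
    obtain ⟨h2, h3⟩ := h.2 v hv
    set w := mapL (lst v) M with hw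
    have hlen : w.length = 24 := mapL_length _ _ hsh.2
    have hget : ∀ q, w.getD (ix q) 0 = mapZ M v q := fun q => by
      rw [hw, mapL_getD _ _ hsh.2 (by simp [lst, hsh.1]) (ix_lt q), mapZ,
        show (lst v).length = 24 by simp [lst],
        ← Fin.sum_univ_eq_sum_range (fun i => (lst v).getD i 0 * ent M i (ix q))]
      refine sum_congr rfl fun i _ => ?_
      rw [← getD_lst v (pt i), ix_pt i.2]
    refine ⟨fun q => ?_, ?_⟩
    · rw [← hget, List.getD_eq_getElem _ _ (hlen.symm ▸ ix_lt q)]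
      exact Int.dvd_of_emod_eq_zero (h2 _ (List.getElem_mem _))
    · have e : img M v = vec (w.map fun c => c / 8) := funext fun q => by
        show mapZ M v q / 8 = List.getD _ _ _
        rw [← hget, List.getD_eq_getElem _ _ (hlen.symm ▸ ix_lt q),
          List.getD_eq_getElem _ _ (by simp [hlen, ix_lt]), List.getElem_map]
      rw [e]
      exact mem_of_inLat h3
  refine le_of_gens K (hK _ List.mem_cons_self) (fun i hi t ht => hK _ ?_) (fun b hb => hK _ ?_) hv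
  · refine List.mem_cons_of_mem _ (List.mem_append_left _ (List.mem_flatMap.2 ⟨ix i, ?_, ?_⟩))
    · rcases i with _ | x
      · exact absurd rfl hi
      · exact List.mem_range.2 (ZMod.val_lt x)
    · rw [pt_ix]
      simp only [List.mem_cons, List.not_mem_nil, or_false] at ht
      rcases ht with rfl | rfl <;> simp
  · exact List.mem_cons_of_mem _ (List.mem_append_right _ (List.mem_map.2 ⟨b, hb, rfl⟩))

theorem pt_injective24 {a b : Fin 24} (h : pt a = pt b) : a = b :=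
  Fin.ext (by rw [← ix_pt a.2, h, ix_pt b.2])

theorem pt_bijective : Function.Bijective fun i : Fin 24 => pt i :=
  (Fintype.bijective_iff_injective_and_card _).2 ⟨fun _ _ h => pt_injective24 h, by decide⟩

theorem mapZ_pt (M : Mat) (v : Vec) (j : Fin 24) : mapZ M v (pt j) = ∑ i : Fin 24, v (pt i) * ent M i j := by
  rw [mapZ, ix_pt j.2]

theorem sqNorm_img {M : Mat} (h : orth M = true) (hk : keeps M = true) {v : Vec} (hv : v ∈ leechLattice) :
    sqNorm (img M v) = sqNorm v := by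
  have h8 : ∀ j : Fin 24, img M v (pt j) * 8 = ∑ i : Fin 24, v (pt i) * ent M i j := fun j => by
    rw [img, Int.ediv_mul_cancel ((keeps_spec hk hv).1 _), mapZ_pt]
  have key : ∑ j : Fin 24, (img M v (pt j) * 8) ^ 2 = 64 * ∑ i : Fin 24, v (pt i) ^ 2 := by
    simp only [h8, sq, sum_mul_sum]
    rw [sum_comm, mul_sum]
    refine sum_congr rfl fun i _ => ?_
    rw [sum_comm]
    have : ∀ k : Fin 24, ∑ j : Fin 24, v (pt i) * ent M i j * (v (pt k) * ent M k j) =
        v (pt i) * v (pt k) * if i = k then 64 else 0 := fun k => by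
      rw [← orth_spec h i k, mul_sum]
      exact sum_congr rfl fun j _ => by ring
    simp only [this, mul_ite, mul_zero, sum_ite_eq, mem_univ, if_true]
    ring
  simp only [sqNorm]
  rw [← pt_bijective.sum_comp fun p => img M v p ^ 2, ← pt_bijective.sum_comp fun p => v p ^ 2]
  simp only [mul_pow] at key
  rw [← sum_mul] at key
  norm_num at key
  linarith

theorem img_add {M : Mat} (hk : keeps M = true) {v : Vec} (hv : v ∈ leechLattice) (w : Vec) :
    img M (v + w) = img M v + img M w := by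
  funext q
  show mapZ M (v + w) q / 8 = mapZ M v q / 8 + mapZ M w q / 8
  rw [mapZ_add]
  exact Int.add_ediv_of_dvd_left ((keeps_spec hk hv).1 q)

theorem img_bijective {M : Mat} (h : orth M = true) (hk : keeps M = true) :
    Function.Bijective fun v : leechLattice => (⟨img M v, (keeps_spec hk v.2).2⟩ : leechLattice) := by
  set f : leechLattice →+ leechLattice :=
    AddMonoidHom.mk' (fun v => ⟨img M v, (keeps_spec hk v.2).2⟩) fun v w => Subtype.ext (img_add hk v.2 w)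
  show Function.Bijective f
  have hn : ∀ v : leechLattice, sqNorm (f v : Vec) = sqNorm (v : Vec) := fun v => sqNorm_img h hk v.2
  have hinj : Function.Injective f := (injective_iff_map_eq_zero f).2 fun v e => by
    by_contra hne
    have h32 := min_norm v.2 fun e0 => hne (Subtype.ext e0)
    have := hn v
    rw [e] at this
    simp [sqNorm] at this h32
    linarith
  refine ⟨hinj, ?_⟩
  have hmin : ∀ x ∈ minVecs, x ∈ f.range.map (AddSubgroup.subtype leechLattice) := by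
    intro x hx
    let S : Set leechLattice := (Moments.short : Finset leechLattice)
    have hfS : ∀ v ∈ S, f v ∈ S := fun v hv => by
      simp only [S, Finset.mem_coe, Moments.mem_short] at hv ⊢
      rw [hn, hv]
    have hsurj : Set.SurjOn f S S :=
      Finset.surjOn_of_injOn_of_card_le _ hfS hinj.injOn le_rfl
    obtain ⟨v, -, e⟩ := hsurj (show (⟨x, hx.1⟩ : leechLattice) ∈ S by
      simp only [S, Finset.mem_coe, Moments.mem_short]; exact hx.2)
    exact ⟨f v, ⟨v, rfl⟩, congrArg Subtype.val e⟩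
  intro w
  have hw : (w : Vec) ∈ AddSubgroup.closure minVecs := by rw [closure_minVecs]; exact w.2
  obtain ⟨u, ⟨v, rfl⟩, e⟩ := (AddSubgroup.closure_le _).2 hmin hw
  exact ⟨v, Subtype.ext e⟩

/-- The element of a matrix. -/
noncomputable def ofMat (M : Mat) (h : okMat M = true) : Co0 :=
  have hs : orth M = true ∧ keeps M = true := by simpa [okMat, Bool.and_eq_true] using h
  ⟨Equiv.ofBijective _ (img_bijective hs.1 hs.2),
    fun v w => Subtype.ext (img_add hs.2 v.2 w), fun v => sqNorm_img hs.1 hs.2 v.2⟩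

/-- The element of a matrix, or one. -/
noncomputable def elem (M : Mat) : Co0 := if h : okMat M = true then ofMat M h else 1

theorem elem_smul {M : Mat} (h : okMat M = true) (v : leechLattice) : ((elem M • v : leechLattice) : Vec) = img M v := by
  rw [elem, dif_pos h]
  rfl

/-! ### Modulo three -/

/-- The residues of a lattice vector. -/
def red (v : leechLattice) : Fin 24 → ZMod 3 := fun i => ((v : Vec) (pt i) : ZMod 3)

theorem eight_mem (p : GolayPt) : (fun q => if q = p then (8 : ℤ) else 0) ∈ leechLattice :=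
  mem_of_inLat (by revert p; decide +kernel)

/-- Eight times a unit vector. -/
def e8 (i : Fin 24) : leechLattice := ⟨fun q => if q = pt i then 8 else 0, eight_mem _⟩

theorem eight_eq (v : leechLattice) : (8 : ℤ) • v = ∑ i : Fin 24, (v : Vec) (pt i) • e8 i := by
  refine Subtype.ext (funext fun q => ?_)
  obtain ⟨j, rfl⟩ := pt_bijective.2 q
  simp only [AddSubgroup.coe_zsmul, AddSubgroup.val_finsetSum, Pi.smul_apply, Finset.sum_apply, e8,
    smul_eq_mul, mul_ite, mul_zero]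
  rw [sum_eq_single j (fun i _ hij => if_neg fun e => hij (pt_injective24 e.symm)) (by simp), if_pos rfl]
  ring

/-- The residues of the images of the unit vectors. -/
def rowR (g : Co0) (i : Fin 24) : Fin 24 → ZMod 3 := fun j => 2 * red (g • e8 i) j

/-- The action modulo three. -/
def act (g : Co0) (x : Fin 24 → ZMod 3) : Fin 24 → ZMod 3 := ∑ i, x i • rowR g i

theorem red_smul (g : Co0) (v : leechLattice) : red (g • v) = act g (red v) := by
  have h : (8 : ℤ) • (g • v) = ∑ i : Fin 24, (v : Vec) (pt i) • (g • e8 i) := by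
    rw [← actHom_apply, ← map_zsmul, eight_eq, map_sum]
    simp only [map_zsmul, actHom_apply]
  funext j
  have := congrArg (fun w : leechLattice => ((w : Vec) (pt j) : ZMod 3)) h
  simp only [AddSubgroup.coe_zsmul, AddSubgroup.val_finsetSum, Pi.smul_apply, Finset.sum_apply, smul_eq_mul,
    Int.cast_mul, Int.cast_sum] at this
  have h2 : (2 : ZMod 3) * ((8 : ℤ) : ZMod 3) = 1 := by decide
  calc red (g • v) j = 2 * (((8 : ℤ) : ZMod 3) * red (g • v) j) := by rw [← mul_assoc, h2, one_mul]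
    _ = 2 * ∑ i : Fin 24, ((v : Vec) (pt i) : ZMod 3) * ((g • e8 i : leechLattice) : Vec) (pt j) := by
      rw [← this]; rfl
    _ = _ := by
      simp only [act, rowR, red, Finset.sum_apply, Pi.smul_apply, smul_eq_mul, mul_sum]
      exact sum_congr rfl fun i _ => by ring

theorem red_surjective : Function.Surjective red := by
  intro x
  refine ⟨∑ i : Fin 24, (2 * ((x i).val : ℤ)) • e8 i, funext fun j => ?_⟩
  simp only [red, AddSubgroup.val_finsetSum, AddSubgroup.coe_zsmul, Finset.sum_apply, Pi.smul_apply, e8,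
    smul_eq_mul, mul_ite, mul_zero]
  rw [sum_eq_single j (fun i _ hij => if_neg fun e => hij (pt_injective24 e.symm)) (by simp), if_pos rfl]
  push_cast
  rw [ZMod.natCast_val, ZMod.cast_id, mul_comm (2 : ZMod 3), mul_assoc,
    show (2 : ZMod 3) * 8 = 1 by decide, mul_one]

theorem act_one (x : Fin 24 → ZMod 3) : act 1 x = x := by
  obtain ⟨v, rfl⟩ := red_surjective x
  rw [← red_smul, one_smul]

theorem act_mul (g h : Co0) (x : Fin 24 → ZMod 3) : act (g * h) x = act g (act h x) := by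
  obtain ⟨v, rfl⟩ := red_surjective x
  rw [← red_smul, ← red_smul, ← red_smul, mul_smul]

theorem act_injective {g h : Co0} (e : ∀ x, act g x = act h x) : g = h := by
  refine ext' fun v => ?_
  have hmin : ∀ v : leechLattice, sqNorm (v : Vec) = 32 → g • v = h • v := by
    intro v hv
    by_contra hne
    have e2 : red (g • v) = red (h • v) := by rw [red_smul, red_smul, e]
    set w : Vec := ((g • v : leechLattice) : Vec) - ((h • v : leechLattice) : Vec)
    have hw3 : ∀ p, (3 : ℤ) ∣ w p := fun p => by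
      obtain ⟨i, rfl⟩ := pt_bijective.2 p
      show ((3 : ℕ) : ℤ) ∣ w (pt i)
      rw [← ZMod.intCast_zmod_eq_zero_iff_dvd]
      have := congrFun e2 i
      simp only [red] at this
      simp only [w, Pi.sub_apply, Int.cast_sub, this, sub_self]
    have hwL : w ∈ leechLattice := sub_mem (g • v).2 (h • v).2
    obtain ⟨u, hu⟩ : ∃ u : Vec, w = fun p => 3 * u p :=
      ⟨fun p => w p / 3, funext fun p => (Int.mul_ediv_cancel' (hw3 p)).symm⟩
    have huL : u ∈ leechLattice := by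
      have h1 : (8 : ℤ) • u ∈ leechLattice := by
        have e8u : (8 : ℤ) • u = ∑ i : Fin 24, u (pt i) • (e8 i : Vec) := by
          funext q
          obtain ⟨j, rfl⟩ := pt_bijective.2 q
          simp only [Pi.smul_apply, Finset.sum_apply, e8, smul_eq_mul, mul_ite, mul_zero]
          rw [sum_eq_single j (fun i _ hij => if_neg fun e => hij (pt_injective24 e.symm)) (by simp), if_pos rfl]
          ring
        rw [e8u]
        exact sum_mem fun i _ => zsmul_mem (e8 i).2 _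
      have h2 : u = (8 : ℤ) • u + (8 : ℤ) • u - (5 : ℤ) • w := by
        rw [hu]
        funext p
        simp only [Pi.add_apply, Pi.sub_apply, Pi.smul_apply, smul_eq_mul]
        ring
      rw [h2]
      exact sub_mem (add_mem h1 h1) (zsmul_mem hwL _)
    have hu0 : u ≠ 0 := fun e0 => hne (Subtype.ext (funext fun p => sub_eq_zero.1 (by
      have := congrFun hu p
      rw [e0, Pi.zero_apply, mul_zero] at this
      exact this)))
    have hge := min_norm huL hu0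
    have hnorm : sqNorm w = 9 * sqNorm u := by
      simp only [sqNorm, hu, mul_sum]
      exact sum_congr rfl fun p _ => by ring
    have hle : sqNorm w ≤ 128 := by
      have h1 : sqNorm w + sqNorm (((g • v : leechLattice) : Vec) + ((h • v : leechLattice) : Vec)) = 128 := by
        have : ∀ a b : Vec, sqNorm (a - b) + sqNorm (a + b) = 2 * sqNorm a + 2 * sqNorm b := fun a b => by
          simp only [sqNorm, Pi.sub_apply, Pi.add_apply, mul_sum, ← sum_add_distrib]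
          exact sum_congr rfl fun p _ => by ring
        rw [this, sqNorm_smul, sqNorm_smul, hv]; norm_num
      have h0 : 0 ≤ sqNorm (((g • v : leechLattice) : Vec) + ((h • v : leechLattice) : Vec)) :=
        sum_nonneg fun p _ => sq_nonneg _
      linarith
    linarith
  have hv := v.2
  have hcl : (v : Vec) ∈ AddSubgroup.closure minVecs := closure_minVecs.symm ▸ hv
  let K : AddSubgroup Vec :=
    { carrier := {x | ∃ hx : x ∈ leechLattice, g • (⟨x, hx⟩ : leechLattice) = h • ⟨x, hx⟩}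
      zero_mem' := ⟨zero_mem _, (smul_zero' g).trans (smul_zero' h).symm⟩
      add_mem' := fun {a b} ⟨ha, ea⟩ ⟨hb, eb⟩ => ⟨add_mem ha hb, by
        rw [show (⟨a + b, add_mem ha hb⟩ : leechLattice) = ⟨a, ha⟩ + ⟨b, hb⟩ from rfl, smul_add', smul_add',
          ea, eb]⟩
      neg_mem' := fun {a} ⟨ha, ea⟩ => ⟨neg_mem ha, by
        rw [show (⟨-a, neg_mem ha⟩ : leechLattice) = -⟨a, ha⟩ from rfl, smul_neg', smul_neg', ea]⟩ }
  obtain ⟨_, hk⟩ : ∃ hx : (v : Vec) ∈ leechLattice, g • (⟨v, hx⟩ : leechLattice) = h • ⟨v, hx⟩ :=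
    (AddSubgroup.closure_le K).2 (fun x hx => ⟨hx.1, hmin ⟨x, hx.1⟩ hx.2⟩) hcl
  exact hk

/-! ### Codes -/

/-- A residue of an entry. -/
def res (a : ℤ) : ℕ := ((2 * a) % 3).toNat

/-- The code of a matrix. -/
def codeOf (M : Mat) : ℕ := encM (M.map fun r => r.map res)

/-- A code for the action of an element. -/
def Rep (g : Co0) (c : ℕ) : Prop := ∃ A, Mat3 A ∧ c = encM A ∧ ∀ x, act g x = lin A x

theorem Rep.eq {g h : Co0} {c : ℕ} (hg : Rep g c) (hh : Rep h c) : g = h := by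
  obtain ⟨A, hA, rfl, eA⟩ := hg
  obtain ⟨B, hB, e, eB⟩ := hh
  have hfl : A.flatten = B.flatten := by
    refine encL_injective _ _ (flatten_lt fun r hr a ha => lt_trans ((hA.2 r hr).2 a ha) (by norm_num))
      (flatten_lt fun r hr a ha => lt_trans ((hB.2 r hr).2 a ha) (by norm_num)) ?_ e
    rw [flatten_length fun r hr => (hA.2 r hr).1, flatten_length fun r hr => (hB.2 r hr).1, hA.1, hB.1]
  have hAB : A = B := List.eq_iff_flatten_eq.2 ⟨hfl, by
    rw [List.map_congr_left (g := fun _ => 24) fun r hr => (hA.2 r hr).1,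
      List.map_congr_left (l := B) (g := fun _ => 24) fun r hr => (hB.2 r hr).1, List.map_const', List.map_const',
      hA.1, hB.1]⟩
  exact act_injective fun x => by rw [eA, eB, hAB]

theorem Rep.app {g : Co0} {c : ℕ} (h : Rep g c) {l : List ℕ} (hl : Vec3 l) :
    ∃ l', Vec3 l' ∧ appP c (encL l) = encL l' ∧ act g (dec l) = dec l' := by
  obtain ⟨A, hA, rfl, e⟩ := h
  exact ⟨_, vec3_mulRowL A l, appP_enc hA hl, by rw [e, dec_mulRowL]⟩

theorem rep_elem {M : Mat} {c : ℕ} (h : okMat M = true) (hc : codeOf M = c) : Rep (elem M) c := by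
  have hs : shape M = true := by
    have := h
    simp only [okMat, orth, Bool.and_eq_true] at this
    exact this.1.1
  simp only [shape, Bool.and_eq_true, beq_iff_eq, List.all_eq_true] at hs
  have hA : Mat3 (M.map fun r => r.map res) := by
    refine ⟨by rw [List.length_map, hs.1], fun r hr => ?_⟩
    obtain ⟨x, hx, rfl⟩ := List.mem_map.1 hr
    refine ⟨by rw [List.length_map, hs.2 x hx], fun a ha => ?_⟩
    obtain ⟨y, -, rfl⟩ := List.mem_map.1 ha
    unfold res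
    omega
  refine ⟨_, hA, hc.symm, fun x => sum_congr rfl fun i _ => ?_⟩
  congr 1
  funext j
  have e : (((elem M • e8 i : leechLattice) : Vec)) (pt j) = ent M i j := by
    rw [elem_smul h]
    show mapZ M (e8 i : Vec) (pt j) / 8 = _
    rw [mapZ_pt, sum_eq_single i (fun k _ hk => by
      show (if pt k = pt i then (8 : ℤ) else 0) * _ = 0
      rw [if_neg fun e => hk (pt_injective24 e), zero_mul]) (by simp)]
    show (if pt i = pt i then (8 : ℤ) else 0) * _ / 8 = _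
    rw [if_pos rfl]
    omega
  simp only [rowR, red, dec, e]
  have hi : (i : ℕ) < M.length := hs.1.symm ▸ i.2
  have hj : (j : ℕ) < M[(i : ℕ)].length := (hs.2 _ (List.getElem_mem hi)).symm ▸ j.2
  rw [List.getD_eq_getElem (l := M.map fun r => r.map res) _ (by simpa using hi), List.getElem_map,
    List.getD_eq_getElem _ _ (by simpa using hj), List.getElem_map]
  have ee : ent M i j = M[(i : ℕ)][(j : ℕ)] := by
    rw [ent, List.getD_eq_getElem _ _ hi, List.getD_eq_getElem _ _ hj]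
  rw [← ee, res]
  have hnn : 0 ≤ (2 * ent M i j) % 3 := Int.emod_nonneg _ (by norm_num)
  calc (2 : ZMod 3) * (ent M i j : ZMod 3) = ((2 * ent M i j : ℤ) : ZMod 3) := by push_cast; rfl
    _ = (((2 * ent M i j) % 3 : ℤ) : ZMod 3) := (ZMod.intCast_mod _ 3).symm
    _ = _ := by
      conv_lhs => rw [← Int.toNat_of_nonneg hnn]
      rw [Int.cast_natCast]

theorem Rep.mul {g h : Co0} {a b : ℕ} (hg : Rep g a) (hh : Rep h b) : Rep (g * h) (mulP a b) := by
  obtain ⟨A, hA, rfl, eA⟩ := hg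
  obtain ⟨B, hB, rfl, eB⟩ := hh
  refine ⟨B.map (mulRowL A), ⟨by simp [hB.1], fun r hr => ?_⟩, mulP_enc hA hB, fun x => ?_⟩
  · obtain ⟨l, -, rfl⟩ := List.mem_map.1 hr
    exact vec3_mulRowL A l
  rw [act_mul, eB, eA]
  have hlin : ∀ y : Fin 24 → Fin 24 → ZMod 3, lin A (∑ i, x i • y i) = ∑ i, x i • lin A (y i) := fun y => by
    simp only [lin, Finset.sum_apply, Pi.smul_apply, smul_eq_mul, sum_smul, smul_sum, mul_smul]
    exact sum_comm
  show lin A (∑ i, x i • _) = _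
  rw [hlin]
  refine sum_congr rfl fun i _ => ?_
  rw [← dec_mulRowL]
  congr 2
  rw [List.getD_eq_getElem _ _ (hB.1.symm ▸ i.2), List.getD_eq_getElem _ _ (by simp [hB.1]), List.getElem_map]

/-- The rows of the identity. -/
def idRows : List (List ℕ) := (List.range 24).map fun i => (List.range 24).map fun j => if i = j then 1 else 0

theorem rep_one : Rep 1 (encM idRows) := by
  refine ⟨idRows, ⟨by decide +kernel, by unfold Vec3; decide +kernel⟩, rfl, fun x => ?_⟩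
  rw [act_one, lin]
  funext j
  simp only [Finset.sum_apply, Pi.smul_apply, smul_eq_mul]
  have : ∀ i j : Fin 24, dec (idRows.getD i []) j = if i = j then 1 else 0 := by decide +kernel
  simp only [this, mul_ite, mul_one, mul_zero, sum_ite_eq', mem_univ, if_true]

end Cfsg.Agent.Lib.PcMult.Leech
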