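import Cfsg.Agent.Lib.PcMult.Leech.Check
import Cfsg.Agent.Lib.LeechAut.Conway23
import Cfsg.Prelude.Def_Spor_Conway

/-!
Certificates inside the stabiliser of a lattice vector.
-/

set_option autoImplicit false
set_option maxRecDepth 10000

namespace Cfsg.Agent.Lib.PcMult.Leech

open Cfsg Cfsg.Agent.Golay.Basic Cfsg.Agent.Leech.Index Cfsg.Agent.Lib.PcMult
open scoped commutatorElement

/-- The stabiliser of a vector, as in the definitions of the groups. -/
abbrev stabP (v : leechLattice) : Subgroup (Equiv.Perm leechLattice) :=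
  Co0 ⊓ MulAction.stabilizer (Equiv.Perm leechLattice) v

/-- The stabiliser as a subgroup of `Co0`. -/
def stabEquiv (v : leechLattice) : stabP v ≃* MulAction.stabilizer Co0 v where
  toFun g := ⟨⟨g.1, g.2.1⟩, g.2.2⟩
  invFun g := ⟨g.1.1, g.1.2, g.2⟩
  left_inv _ := rfl
  right_inv _ := rfl
  map_mul' _ _ := rfl

/-- All matrices fix the vector. -/
def fixAll (x : Vec) (Ms : List Mat) : Bool :=
  Ms.all fun M => (List.range 24).all fun q => mapZ M x (pt q) == 8 * x (pt q)

theorem elem_fix {x : Vec} {Ms : List Mat} (h : fixAll x Ms = true) {M : Mat} (hM : M ∈ Ms)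
    {v : leechLattice} (hv : (v : Vec) = x) : elem M • v = v := by
  by_cases hok : okMat M = true
  · refine Subtype.ext ?_
    rw [elem_smul hok, hv]
    funext p
    simp only [fixAll, List.all_eq_true, List.mem_range, beq_iff_eq] at h
    have := h M hM (ix p) (ix_lt p)
    rw [pt_ix] at this
    show mapZ M x p / 8 = x p
    rw [this]
    omega
  · rw [elem, dif_neg hok, one_smul]

theorem split_stab {D : Data} {F : Type} {O : Ops F} {p : ℕ} [Fact p.Prime] (hp : D.C.R.p = p)
    {v : leechLattice} {x : Vec} (hv : (v : Vec) = x)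
    (hO : ∀ (K : Type) [CommGroup K], (∀ z : K, z ^ D.C.R.p = 1) → ∀ τ : ℕ → K, ∃ ev, O.Valid D.C.R.p τ ev)
    (hC : D.C.check O = true) (hE : D.checkElems = true) (hR : D.checkRules = true) (hF : D.checkFus = true)
    (hN : D.checkNew = true)
    (hB : D.C.fus.all (fun qp => qp.1.all fun ab => (ab.1 ++ ab.2).all fun k => decide (k < D.C.R.n)) = true)
    (hfix : fixAll x (D.gs ++ D.hs) = true) [Finite Co0]
    (hcard : (Nat.card (stabP v)).factorization p = D.C.R.n)
    (Γ : Type) [Group Γ] [Finite Γ] (σ : Γ →* stabP v) (hc : σ.ker ≤ Subgroup.center Γ)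
    (hσ : Function.Surjective σ) (hex : ∀ z, σ z = 1 → z ^ p = 1) (P : Sylow p Γ) :
    ⁅(P : Subgroup Γ), (P : Subgroup Γ)⁆ ⊓ σ.ker = ⊥ := by
  subst hp
  haveI : Finite (stabP v) := Finite.of_injective (fun g => (⟨g.1, g.2.1⟩ : Co0)) fun a b e =>
    Subtype.ext (congrArg (fun z : Co0 => (z : Equiv.Perm leechLattice)) e)
  have hE' := hE
  simp only [Data.checkElems, Bool.and_eq_true, beq_iff_eq] at hE'
  have hg : ∀ i < D.C.R.n, D.g i • v = v := fun i hi => by
    refine elem_fix hfix (List.mem_append_left _ ?_) hv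
    have hi' : i < D.gs.length := hE'.1.1 ▸ hi
    rw [List.getD_eq_getElem _ _ hi']
    exact List.getElem_mem _
  have hh : ∀ i, D.h i • v = v := fun i => by
    rw [Data.h]
    split_ifs with hi
    · refine elem_fix hfix (List.mem_append_right _ ?_) hv
      rw [List.getD_eq_getElem _ _ hi]
      exact List.getElem_mem _
    · exact one_smul _ _
  let f : stabP v →* Co0 := Subgroup.inclusion inf_le_left
  let g : ℕ → stabP v := fun i => if h : i < D.C.R.n then ⟨(D.g i).1, (D.g i).2, hg i h⟩ else 1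
  let h : ℕ → stabP v := fun i => ⟨(D.h i).1, (D.h i).2, hh i⟩
  refine split (Fact.out : D.C.R.p.Prime) hc hσ hex hO hC (g := g) (h := h) ?_ hcard rfl P
  exact real_of_injective f (Subgroup.inclusion_injective _) (fun i hi => by simp only [g, dif_pos hi]; rfl)
    (fun i _ => rfl) hB (Data.real hE hR hF hN hB)

end Cfsg.Agent.Lib.PcMult.Leech
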