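import Cfsg.Agent.Lib.PcMult.Leech.Elem
import Cfsg.Agent.Lib.PcMult.Split
import Cfsg.Agent.Lib.PcMult.Trivial

/-!
Checking the hypotheses of a multiplier certificate in a subgroup of `Co0`.
-/

set_option autoImplicit false
set_option maxRecDepth 10000

namespace Cfsg.Agent.Lib.PcMult.Leech

open Cfsg Cfsg.Agent.Lib.PcMult

/-- A certificate with its elements: matrices and codes for the letters and conjugators, and for each letter
a vector and a set closed under the later letters. -/
structure Data where
  C : Cert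
  gs : List Mat
  hs : List Mat
  gc : List ℕ
  hc : List ℕ
  orbs : List (List ℕ × List (List ℕ))

namespace Data

variable (D : Data)

/-- The code of a word. -/
def evalC : List ℕ → ℕ
  | [] => encM idRows
  | [i] => D.gc.getD i 0
  | i :: l => frc (evalC l) fun a => frc (mulP (D.gc.getD i 0) a) fun b => b

/-- One element has its code; the conjugators follow the letters. -/
def elemOk (k : ℕ) : Bool :=
  if k < D.gs.length then okMat (D.gs.getD k []) && codeOf (D.gs.getD k []) == D.gc.getD k 0
  else okMat (D.hs.getD (k - D.gs.length) []) &&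
    codeOf (D.hs.getD (k - D.gs.length) []) == D.hc.getD (k - D.gs.length) 0

/-- The elements have their codes. -/
def checkElems : Bool :=
  D.gs.length == D.C.R.n && D.hs.length == D.C.fus.length &&
    (List.range (D.gs.length + D.hs.length)).all D.elemOk

/-- All but the last. -/
theorem elemsUpTo_succ {m : ℕ} (h : (List.range m).all D.elemOk = true) (h' : D.elemOk m = true) :
    (List.range (m + 1)).all D.elemOk = true := by
  rw [List.range_succ, List.all_append, h]
  simp [h']

/-- The rules of one letter hold. -/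
def rulesAt (i : ℕ) : Bool :=
  D.evalC (List.replicate D.C.R.p i) == D.evalC (D.C.R.pwWord i) &&
    ((List.range' (i + 1) (D.C.R.n - (i + 1))).all fun j =>
      D.evalC [j, i] == D.evalC (i :: D.C.R.cjWord i j))

/-- The rules hold. -/
def checkRules : Bool := (List.range D.C.R.n).all D.rulesAt

/-- One conjugation holds. -/
def fusAt (q : ℕ) : Bool :=
  (D.C.fus.getD q ([], [])).1.all fun ab =>
    frc (D.evalC ab.1) fun a => frc (D.evalC ab.2) fun b =>
      mulP (D.hc.getD q 0) a == mulP b (D.hc.getD q 0)

/-- The conjugations hold. -/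
def checkFus : Bool := (List.range D.C.fus.length).all D.fusAt

/-- Extending a check by one index. -/
theorem allUpTo_succ {f : ℕ → Bool} {m : ℕ} (h : (List.range m).all f = true) (h' : f m = true) :
    (List.range (m + 1)).all f = true := by
  rw [List.range_succ, List.all_append, h]
  simp [h']

/-- The letters are in order and each one is new. -/
def checkNew : Bool :=
  (List.range D.C.R.n).all fun i =>
    ((D.C.R.pwWord i).all fun k => decide (i < k) && decide (k < D.C.R.n)) &&
    ((List.range' (i + 1) (D.C.R.n - (i + 1))).all fun j =>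
      (D.C.R.cjWord i j).all fun k => decide (i < k) && decide (k < D.C.R.n)) &&
    ((D.orbs.getD i ([], [])).2.contains (D.orbs.getD i ([], [])).1) &&
    ((D.orbs.getD i ([], [])).2.all fun o => o.length == 24 && o.all fun d => decide (d < 3)) &&
    (frcL ((D.orbs.getD i ([], [])).2.map encL) fun os =>
      ((List.range' (i + 1) (D.C.R.n - (i + 1))).all fun j => frc (D.gc.getD j 0) fun c => os.all fun o =>
        frc (appP c o) fun a => os.contains a) &&
      frc (appP (D.gc.getD i 0) (encL (D.orbs.getD i ([], [])).1)) fun a => !os.contains a)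

/-- The letters. -/
noncomputable def g (i : ℕ) : Co0 := elem (D.gs.getD i [])

/-- The conjugators. -/
noncomputable def h (i : ℕ) : Co0 := if i < D.hs.length then elem (D.hs.getD i []) else 1

theorem mem_range'_succ {i j n : ℕ} (hij : i < j) (hj : j < n) :
    j ∈ List.range' (i + 1) (n - (i + 1)) := by
  rw [List.mem_range'_1]
  omega

variable {D} (hE : D.checkElems = true)
include hE

theorem rep_g {i : ℕ} (hi : i < D.C.R.n) : Rep (D.g i) (D.gc.getD i 0) := by
  simp only [checkElems, Bool.and_eq_true, beq_iff_eq, List.all_eq_true, List.mem_range] at hE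
  have hi' : i < D.gs.length := hE.1.1 ▸ hi
  have := hE.2 i (by omega)
  simp only [elemOk, if_pos hi', Bool.and_eq_true, beq_iff_eq] at this
  exact rep_elem this.1 this.2

theorem rep_h {i : ℕ} (hi : i < D.C.fus.length) : Rep (D.h i) (D.hc.getD i 0) := by
  simp only [checkElems, Bool.and_eq_true, beq_iff_eq, List.all_eq_true, List.mem_range] at hE
  have hi' : i < D.hs.length := hE.1.2 ▸ hi
  have := hE.2 (D.gs.length + i) (by omega)
  simp only [elemOk, if_neg (show ¬ D.gs.length + i < D.gs.length by omega), Nat.add_sub_cancel_left,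
    Bool.and_eq_true, beq_iff_eq] at this
  rw [h, if_pos hi']
  exact rep_elem this.1 this.2

theorem rep_word : ∀ l : List ℕ, (∀ i ∈ l, i < D.C.R.n) → Rep (W D.g l) (D.evalC l)
  | [], _ => rep_one
  | [i], hl => by
    rw [evalC, W_cons, W_nil, mul_one]
    exact rep_g hE (hl i List.mem_cons_self)
  | i :: j :: l, hl => by
    rw [evalC, frc_eq, frc_eq, W_cons]
    · exact (rep_g hE (hl i List.mem_cons_self)).mul (rep_word (j :: l) fun k hk => hl k (List.mem_cons_of_mem _ hk))
    · simp

theorem real (hR : D.checkRules = true) (hF : D.checkFus = true) (hN : D.checkNew = true)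
    (hB : D.C.fus.all (fun qp => qp.1.all fun ab => (ab.1 ++ ab.2).all fun k => decide (k < D.C.R.n)) = true)
    [Finite Co0] : D.C.Real D.g D.h := by
  simp only [checkNew, Bool.and_eq_true, List.all_eq_true, List.mem_range, decide_eq_true_eq, beq_iff_eq, frc_eq, frcL_eq, Bool.not_eq_true', List.contains_eq_mem, decide_eq_false_iff_not] at hN
  simp only [checkRules, rulesAt, Bool.and_eq_true, List.all_eq_true, List.mem_range, beq_iff_eq] at hR
  have hmem : ∀ i < D.C.R.n, (∀ k ∈ D.C.R.pwWord i, i < k ∧ k < D.C.R.n) ∧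
      ∀ j, i < j → j < D.C.R.n → ∀ k ∈ D.C.R.cjWord i j, i < k ∧ k < D.C.R.n := fun i hi =>
    ⟨(hN i hi).1.1.1.1, fun j hij hj => (hN i hi).1.1.1.2 j (mem_range'_succ hij hj)⟩
  refine ⟨fun i hi => ?_, fun i j hij hj => ?_, fun qp hqp ab hab => ?_, hmem, fun i hi => ?_⟩
  · have e1 := rep_word hE (List.replicate D.C.R.p i) fun k hk => (List.eq_of_mem_replicate hk) ▸ hi
    rw [W_replicate, (hR i hi).1] at e1
    exact e1.eq (rep_word hE _ fun k hk => ((hmem i hi).1 k hk).2)
  · have hi := hij.trans hj
    have e1 := rep_word hE [j, i] (by simp [hi, hj])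
    have e2 := rep_word hE (i :: D.C.R.cjWord i j) (by
      simp only [List.mem_cons, forall_eq_or_imp]
      exact ⟨hi, fun k hk => ((hmem i hi).2 j hij hj k hk).2⟩)
    rw [(hR i hi).2 j (mem_range'_succ hij hj)] at e1
    simpa [W] using e1.eq e2
  · simp only [checkFus, fusAt, List.all_eq_true, List.mem_range, frc_eq, beq_iff_eq] at hF
    obtain ⟨⟨ps, rs⟩, q⟩ := qp
    have hget := List.mem_zipIdx_iff_getElem?.1 hqp
    obtain ⟨hq, eq⟩ := List.getElem?_eq_some_iff.1 hget
    have hps : (ps, rs) ∈ D.C.fus := List.mem_of_getElem eq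
    have e := hF q hq ab (by rw [List.getD_eq_getElem _ _ hq, eq]; exact hab)
    simp only [List.all_eq_true, decide_eq_true_eq, List.mem_append] at hB
    have hb := hB _ hps ab hab
    have e1 := (rep_h hE hq).mul (rep_word hE ab.1 fun k hk => hb k (Or.inl hk))
    have e2 := (rep_word hE ab.2 fun k hk => hb k (Or.inr hk)).mul (rep_h hE hq)
    rw [e] at e1
    exact e1.eq e2
  · obtain ⟨⟨⟨-, hb⟩, h3⟩, hcl, hout⟩ := hN i hi
    have hO : ∀ o ∈ (D.orbs.getD i ([], [])).2, Vec3 o := fun o ho => h3 o ho
    refine not_mem_closure act act_one act_mul ((D.orbs.getD i ([], [])).2.map dec)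
      (List.mem_map.2 ⟨_, hb, rfl⟩) ?_ ?_
    · rintro _ ⟨j, ⟨hij, hj⟩, rfl⟩ x hx
      obtain ⟨o, ho, rfl⟩ := List.mem_map.1 hx
      obtain ⟨l', hl', e1, e2⟩ := (rep_g hE hj).app (hO o ho)
      have hmem' := hcl j (mem_range'_succ hij hj) (encL o) (List.mem_map_of_mem ho)
      rw [e1] at hmem'
      obtain ⟨o', ho', e⟩ := List.mem_map.1 hmem'
      rw [e2]
      exact List.mem_map.2 ⟨o', ho', congrArg dec (encL_injective _ _
        (fun a ha => lt_trans ((hO o' ho').2 a ha) (by norm_num))
        (fun a ha => lt_trans (hl'.2 a ha) (by norm_num)) ((hO o' ho').1.trans hl'.1.symm) e)⟩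
    · obtain ⟨l', hl', e1, e2⟩ := (rep_g hE hi).app (hO _ hb)
      rw [e2]
      intro hx
      obtain ⟨o, ho, e⟩ := List.mem_map.1 hx
      rw [e1] at hout
      exact hout (List.mem_map.2 ⟨o, ho, congrArg encL (dec_injective (hO o ho) hl' e)⟩)

end Data

/-- Transfer to a subgroup. -/
theorem real_of_injective {G G' : Type*} [Group G] [Group G'] {C : Cert} (f : G →* G')
    (hf : Function.Injective f) {g h : ℕ → G} {g' h' : ℕ → G'} (eg : ∀ i < C.R.n, f (g i) = g' i)
    (eh : ∀ i < C.fus.length, f (h i) = h' i)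
    (hB : C.fus.all (fun qp => qp.1.all fun ab => (ab.1 ++ ab.2).all fun k => decide (k < C.R.n)) = true)
    (hR : C.Real g' h') : C.Real g h := by
  have hW : ∀ l : List ℕ, (∀ i ∈ l, i < C.R.n) → f (W g l) = W g' l := fun l hl => by
    rw [map_W]
    simp only [W]
    exact congrArg List.prod (List.map_congr_left fun i hi => eg i (hl i hi))
  refine ⟨fun i hi => hf ?_, fun i j hij hj => hf ?_, fun qp hqp ab hab => hf ?_, hR.mem, fun i hi hmem => ?_⟩
  · rw [map_pow, eg i hi, hW _ fun k hk => ((hR.mem i hi).1 k hk).2, hR.pow i hi]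
  · have hi := hij.trans hj
    rw [map_mul, map_mul, eg i hi, eg j hj, hW _ fun k hk => ((hR.mem i hi).2 j hij hj k hk).2,
      hR.conj i j hij hj]
  · obtain ⟨⟨ps, rs⟩, q⟩ := qp
    obtain ⟨hq, eq⟩ := List.getElem?_eq_some_iff.1 (List.mem_zipIdx_iff_getElem?.1 hqp)
    simp only [List.all_eq_true, decide_eq_true_eq, List.mem_append] at hB
    have hb := hB (ps, rs) (List.mem_of_getElem eq) ab hab
    rw [map_mul, map_mul, eh q hq, hW _ fun k hk => hb k (Or.inl hk), hW _ fun k hk => hb k (Or.inr hk)]
    exact hR.fus _ hqp ab hab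
  · refine hR.new i hi ?_
    have := Subgroup.mem_map_of_mem f hmem
    rw [MonoidHom.map_closure, eg i hi, Set.image_image] at this
    rwa [Set.image_congr fun k hk => eg k hk.2] at this

end Cfsg.Agent.Lib.PcMult.Leech
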